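import Groth.Agent.FreeCx.Depth
import Mathlib.Algebra.Homology.ShortComplex.ModuleCat
import Mathlib.Algebra.Homology.ShortComplex.HomologicalComplex

/-!
# The acyclicity lemma and minimal complexes for chain and cochain complexes of free modules
-/

namespace Groth.Agent.FreeCx

open CategoryTheory Abelian IsLocalRing Limits

universe u

variable {A : Type u} [CommRing A]

section

variable {ι : Type*} {c : ComplexShape ι} (K : HomologicalComplex (ModuleCat.{u} A) c) (i j k : ι)
  (hi : c.prev j = i) (hk : c.next j = k)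

include hi hk

theorem isZero_homology_iff : IsZero (K.homology j) ↔ LinearMap.range (K.d i j).hom = LinearMap.ker (K.d j k).hom := by
  rw [← HomologicalComplex.exactAt_iff_isZero_homology, K.exactAt_iff' i j k hi hk]
  exact ShortComplex.moduleCat_exact_iff_range_eq_ker _

theorem isFiniteLength_of_homology (h : IsFiniteLength A (K.homology j)) :
    IsFiniteLength A (LinearMap.ker (K.d j k).hom ⧸
      (LinearMap.range (K.d i j).hom).comap (LinearMap.ker (K.d j k).hom).subtype) := by
  let S := K.sc' i j k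
  let e := ((K.homologyIsoSc' i j k hi hk) ≪≫ S.moduleCatHomologyIso).toLinearEquiv
  have heq : LinearMap.range S.moduleCatToCycles =
      (LinearMap.range S.f.hom).comap (LinearMap.ker S.g.hom).subtype := by
    ext z
    exact ⟨fun ⟨y, hy⟩ => ⟨y, congrArg Subtype.val hy⟩, fun ⟨y, hy⟩ => ⟨y, Subtype.ext hy⟩⟩
  exact (e.trans (Submodule.quotEquivOfEq _ _ heq)).isFiniteLength h

end

variable [IsLocalRing A] [IsNoetherianRing A]

local notation "𝕜" => ModuleCat.of A (A ⧸ IsLocalRing.maximalIdeal A)

theorem finite_range {X Y : ModuleCat.{u} A} [Module.Finite A Y] (f : X ⟶ Y) :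
    Module.Finite A (LinearMap.range f.hom) := inferInstance

/-- The acyclicity lemma for cochain complexes. -/
theorem acyclicity_cochain (K : CochainComplex (ModuleCat.{u} A) ℕ)
    (hfree : ∀ i, Module.Free A (K.X i) ∧ Module.Finite A (K.X i))
    (hfl : ∀ i, IsFiniteLength A (K.homology i)) {g : ℕ} (hg : (g : ℕ∞) ≤ LocCoh.depth A A) :
    ∀ i, i < g → IsZero (K.homology i) := by
  have hfin : ∀ i, Module.Finite A (K.X i) := fun i => (hfree i).2
  have hdep : ∀ i m, m ≤ g → (m : ℕ∞) ≤ LocCoh.depth A (K.X i) := fun i m hm =>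
    haveI := (hfree i).1
    le_depth_free _ (le_trans (by exact_mod_cast hm) hg)
  have key : ∀ i, i < g → IsZero (K.homology i) ∧
      ((g - i : ℕ) : ℕ∞) ≤ LocCoh.depth A (LinearMap.range (K.d i (i + 1)).hom) := by
    intro i
    induction i with
    | zero =>
      intro hg0
      have hd0 : K.d 0 0 = 0 := K.shape 0 0 (by simp)
      have hker : LinearMap.ker (K.d 0 1).hom = ⊥ := by
        have hZ := one_le_depth_submodule (by exact_mod_cast hdep 0 1 hg0) (LinearMap.ker (K.d 0 1).hom)
        have h0 := isFiniteLength_of_homology K 0 0 1 (by simp) (by simp) (hfl 0)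
        have hbot : (LinearMap.range (K.d 0 0).hom).comap (LinearMap.ker (K.d 0 1).hom).subtype = ⊥ := by
          rw [hd0]; simp [Submodule.comap_bot]
        have h1 := subsingleton_of_isFiniteLength (by exact_mod_cast hZ)
          (((Submodule.quotEquivOfEqBot _ hbot)).isFiniteLength h0)
        exact Submodule.eq_bot_of_subsingleton
      refine ⟨?_, ?_⟩
      · rw [isZero_homology_iff K 0 0 1 (by simp) (by simp), hd0, hker]
        simp
      · rw [← DepthLib.depth_congr (LinearEquiv.ofInjective _ (LinearMap.ker_eq_bot.1 hker)), Nat.sub_zero]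
        exact hdep 0 g le_rfl
    | succ i ih =>
      intro hi
      obtain ⟨-, hB⟩ := ih (by omega)
      obtain ⟨n, hn⟩ : ∃ n, g - i = n + 2 := ⟨g - i - 2, by omega⟩
      obtain ⟨heq, hD⟩ := acyclic_step (K.d i (i + 1)).hom (K.d (i + 1) (i + 2)).hom
        (by rw [← ModuleCat.hom_comp, K.d_comp_d, ModuleCat.hom_zero]) (hdep (i + 1) (n + 1) (by omega))
        (hn ▸ hB) (isFiniteLength_of_homology K i (i + 1) (i + 2) (by simp) (by simp) (hfl (i + 1)))
      exact ⟨(isZero_homology_iff K i (i + 1) (i + 2) (by simp) (by simp)).2 heq,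
        by rwa [show g - (i + 1) = n + 1 by omega]⟩
  exact fun i hi => (key i hi).1

/-- The acyclicity lemma for chain complexes bounded above by `k`. -/
theorem acyclicity_chain (F : ChainComplex (ModuleCat.{u} A) ℕ) {k : ℕ} (hbd : ∀ i, k < i → IsZero (F.X i))
    (hfree : ∀ i, Module.Free A (F.X i) ∧ Module.Finite A (F.X i))
    (hfl : ∀ i, IsFiniteLength A (F.homology i)) {g : ℕ} (hg : (g : ℕ∞) ≤ LocCoh.depth A A) :
    ∀ i, k < i + g → IsZero (F.homology i) := by
  have hfin : ∀ i, Module.Finite A (F.X i) := fun i => (hfree i).2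
  have hdep : ∀ i m, m ≤ g → (m : ℕ∞) ≤ LocCoh.depth A (F.X i) := fun i m hm =>
    haveI := (hfree i).1
    le_depth_free _ (le_trans (by exact_mod_cast hm) hg)
  have key : ∀ n, n < g → ∀ i, i + n + 1 = k → IsZero (F.homology (i + 1)) ∧
      ((g - n : ℕ) : ℕ∞) ≤ LocCoh.depth A (LinearMap.range (F.d (i + 1) i).hom) := by
    intro n
    induction n with
    | zero =>
      intro hg0 i hi
      have hd0 : F.d (i + 2) (i + 1) = 0 := (hbd _ (by omega)).eq_of_src _ _
      have hker : LinearMap.ker (F.d (i + 1) i).hom = ⊥ := by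
        have hZ := one_le_depth_submodule (by exact_mod_cast hdep (i + 1) 1 hg0) (LinearMap.ker (F.d (i + 1) i).hom)
        have h0 := isFiniteLength_of_homology F (i + 2) (i + 1) i (by simp) (by simp) (hfl (i + 1))
        have hbot : (LinearMap.range (F.d (i + 2) (i + 1)).hom).comap
            (LinearMap.ker (F.d (i + 1) i).hom).subtype = ⊥ := by
          rw [hd0]; simp [Submodule.comap_bot]
        have h1 := subsingleton_of_isFiniteLength (by exact_mod_cast hZ)
          (((Submodule.quotEquivOfEqBot _ hbot)).isFiniteLength h0)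
        exact Submodule.eq_bot_of_subsingleton
      refine ⟨?_, ?_⟩
      · rw [isZero_homology_iff F (i + 2) (i + 1) i (by simp) (by simp), hd0, hker]
        simp
      · rw [← DepthLib.depth_congr (LinearEquiv.ofInjective _ (LinearMap.ker_eq_bot.1 hker)), Nat.sub_zero]
        exact hdep (i + 1) g le_rfl
    | succ n ih =>
      intro hn i hi
      obtain ⟨-, hB⟩ := ih (by omega) (i + 1) (by omega)
      obtain ⟨m, hm⟩ : ∃ m, g - n = m + 2 := ⟨g - n - 2, by omega⟩
      obtain ⟨heq, hD⟩ := acyclic_step (F.d (i + 2) (i + 1)).hom (F.d (i + 1) i).hom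
        (by rw [← ModuleCat.hom_comp, F.d_comp_d, ModuleCat.hom_zero]) (hdep (i + 1) (m + 1) (by omega))
        (hm ▸ hB) (isFiniteLength_of_homology F (i + 2) (i + 1) i (by simp) (by simp) (hfl (i + 1)))
      exact ⟨(isZero_homology_iff F (i + 2) (i + 1) i (by simp) (by simp)).2 heq,
        by rwa [show g - (n + 1) = m + 1 by omega]⟩
  intro i hi
  rcases Nat.lt_or_ge k i with h | h
  · rw [← HomologicalComplex.exactAt_iff_isZero_homology]
    exact ShortComplex.exact_of_isZero_X₂ _ (hbd i h)
  cases i with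
  | zero =>
    -- here `k < g`
    rcases Nat.eq_zero_or_pos k with hk | hk
    · subst hk
      have hd0 : F.d 1 0 = 0 := (hbd _ Nat.one_pos).eq_of_src _ _
      have h00 : F.d 0 0 = 0 := F.shape 0 0 (by simp)
      have h0 := isFiniteLength_of_homology F 1 0 0 (by simp) (by simp) (hfl 0)
      have hbot : (LinearMap.range (F.d 1 0).hom).comap (LinearMap.ker (F.d 0 0).hom).subtype = ⊥ := by
        rw [hd0]; simp [Submodule.comap_bot]
      have hZ := one_le_depth_submodule (by exact_mod_cast hdep 0 1 (by omega)) (LinearMap.ker (F.d 0 0).hom)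
      have h1 := subsingleton_of_isFiniteLength (by exact_mod_cast hZ)
        ((Submodule.quotEquivOfEqBot _ hbot).isFiniteLength h0)
      rw [isZero_homology_iff F 1 0 0 (by simp) (by simp), hd0, Submodule.eq_bot_of_subsingleton (p := LinearMap.ker (F.d 0 0).hom)]
      simp
    · obtain ⟨-, hB⟩ := key (k - 1) (by omega) 0 (by omega)
      obtain ⟨m, hm⟩ : ∃ m, g - (k - 1) = m + 2 := ⟨g - (k - 1) - 2, by omega⟩
      obtain ⟨heq, -⟩ := acyclic_step (F.d 1 0).hom (F.d 0 0).hom
        (by rw [← ModuleCat.hom_comp, F.d_comp_d, ModuleCat.hom_zero]) (hdep 0 (m + 1) (by omega))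
        (hm ▸ hB) (isFiniteLength_of_homology F 1 0 0 (by simp) (by simp) (hfl 0))
      exact (isZero_homology_iff F 1 0 0 (by simp) (by simp)).2 heq
  | succ i => exact (key (k - (i + 1)) (by omega) i (by omega)).1

/-- A minimal complex has nonzero homology in the top `depth A + 1` degrees. -/
theorem exists_homology_ne_zero (F : ChainComplex (ModuleCat.{u} A) ℕ) {k : ℕ}
    (hbd : ∀ i, k < i → IsZero (F.X i)) (htop : ¬ IsZero (F.X k))
    (hfree : ∀ i, Module.Free A (F.X i) ∧ Module.Finite A (F.X i))
    (hmin : ∀ i j, LinearMap.range (F.d i j).hom ≤ maximalIdeal A • (⊤ : Submodule A (F.X j)))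
    {d : ℕ} (hd : LocCoh.depth A A = d) : ∃ i, k - d ≤ i ∧ i ≤ k ∧ ¬ IsZero (F.homology i) := by
  by_contra! hall
  have hfin : ∀ i, Module.Finite A (F.X i) := fun i => (hfree i).2
  have hfr : ∀ i, Module.Free A (F.X i) := fun i => (hfree i).1
  have hnt : Nontrivial (F.X k) := not_subsingleton_iff_nontrivial.1 fun h => htop (ModuleCat.isZero_of_subsingleton _)
  have hdk : ∀ j, F.d (k + 1) j = 0 := fun j => (hbd _ (Nat.lt_succ_self k)).eq_of_src _ _
  have hfree0 : ∀ (i j : ℕ), j < d → Subsingleton (Ext.{u} 𝕜 (ModuleCat.of A (F.X i)) j) := fun i j hj =>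
    (DepthLib.natCast_le_idealDepth_iff_ext (maximalIdeal A) (F.X i) d).1 (le_depth_free _ hd.ge) j hj
  have key : ∀ n, n ≤ d → ∀ i, i + n + 1 = k →
      Nontrivial (Ext.{u} 𝕜 (ModuleCat.of A (LinearMap.range (F.d (i + 1) i).hom)) (d - n)) := by
    intro n
    induction n with
    | zero =>
      intro _ i hi
      have hex := (isZero_homology_iff F (i + 2) (i + 1) i (by simp) (by simp)).1 (hall (i + 1) (by omega) (by omega))
      have hik : i + 1 = k := by omega
      rw [show F.d (i + 2) (i + 1) = 0 by subst hik; exact hdk _] at hex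
      have hinj : Function.Injective (F.d (i + 1) i).hom := LinearMap.ker_eq_bot.1 (by rw [← hex]; simp)
      let e := (LinearEquiv.ofInjective _ hinj).toModuleIso
      have hX : Nontrivial (F.X (i + 1)) := hik ▸ hnt
      obtain ⟨x, y, hxy⟩ := nontrivial_ext_free (F.X (i + 1)) hd
      refine ⟨x.comp (Ext.mk₀ e.hom) (add_zero _), y.comp (Ext.mk₀ e.hom) (add_zero _), fun h => hxy ?_⟩
      have h' := congrArg (fun z => Ext.comp z (Ext.mk₀ e.inv) (add_zero _)) h
      simpa [Ext.comp_assoc_of_second_deg_zero, Ext.mk₀_comp_mk₀, Ext.comp_mk₀_id] using h'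
    | succ n ih =>
      intro hn i hi
      have hB := ih (by omega) (i + 1) (by omega)
      rw [show d - n = (d - (n + 1)) + 1 by omega] at hB
      have hex := (isZero_homology_iff F (i + 2) (i + 1) i (by simp) (by simp)).1 (hall (i + 1) (by omega) (by omega))
      refine ext_range_step _ _ hex hB fun x => ?_
      rcases Nat.eq_zero_or_pos n with rfl | hn0
      · -- top degree: minimality
        have hik : i + 2 = k := by omega
        have hex' := (isZero_homology_iff F (i + 3) (i + 2) (i + 1) (by simp) (by simp)).1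
          (hall (i + 2) (by omega) (by omega))
        rw [show F.d (i + 3) (i + 2) = 0 by subst hik; exact hdk _] at hex'
        have hinj : Function.Injective (F.d (i + 2) (i + 1)).hom := LinearMap.ker_eq_bot.1 (by rw [← hex']; simp)
        let e := (LinearEquiv.ofInjective _ hinj).toModuleIso
        have hz := comp_mk₀_eq_zero_of_range_le (F.d (i + 2) (i + 1)).hom (hmin _ _) _
          (x.comp (Ext.mk₀ e.inv) (add_zero _))
        have hcomp : e.inv ≫ ModuleCat.ofHom (F.d (i + 2) (i + 1)).hom =
            ModuleCat.ofHom (LinearMap.range (F.d (i + 2) (i + 1)).hom).subtype := by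
          rw [Iso.inv_comp_eq]; rfl
        rwa [Ext.comp_assoc_of_second_deg_zero, Ext.mk₀_comp_mk₀, hcomp] at hz
      · exact @Subsingleton.elim _ (hfree0 (i + 1) _ (by omega)) _ _
  rcases Nat.lt_or_ge d k with hdk' | hkd
  · obtain ⟨i, hi⟩ : ∃ i, i + d + 1 = k := ⟨k - d - 1, by omega⟩
    have hne := key d le_rfl i hi
    rw [Nat.sub_self] at hne
    obtain ⟨x, y, hxy⟩ := hne
    rcases Nat.eq_zero_or_pos d with rfl | hd0
    · -- depth zero: the socle survives
      subst hi
      have hex := (isZero_homology_iff F (i + 2) (i + 1) i (by simp) (by simp)).1 (hall (i + 1) (by omega) (by omega))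
      rw [hdk (i + 1)] at hex
      have hinj : Function.Injective (F.d (i + 1) i).hom := LinearMap.ker_eq_bot.1 (by rw [← hex]; simp)
      obtain ⟨z, w, hzw⟩ := nontrivial_ext_free (F.X (i + 1)) hd
      refine hzw (sub_eq_zero.1 ?_)
      obtain ⟨φ, hφ⟩ := (Ext.mk₀_bijective 𝕜 (ModuleCat.of A (F.X (i + 1)))).2 (z - w)
      have h := comp_mk₀_eq_zero_of_range_le (F.d (i + 1) i).hom (hmin _ _) 0 (z - w)
      rw [← hφ, Ext.mk₀_comp_mk₀, ← Ext.mk₀_zero] at h
      have h' := (Ext.mk₀_bijective _ _).1 h
      rw [← hφ, show φ = 0 from ModuleCat.hom_ext (LinearMap.ext fun v => hinj (by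
        rw [ModuleCat.hom_zero, LinearMap.zero_apply, map_zero]
        exact congrArg (fun ψ => ψ.hom v) h')), Ext.mk₀_zero]
    · have hsub := hfree0 i 0 hd0
      refine hxy ?_
      have : Mono (ModuleCat.ofHom (LinearMap.range (F.d (i + 1) i).hom).subtype) :=
        (ModuleCat.mono_iff_injective _).2 (Submodule.injective_subtype _)
      exact Ext.postcomp_mk₀_injective_of_mono _ (ModuleCat.ofHom (LinearMap.range (F.d (i + 1) i).hom).subtype)
        (@Subsingleton.elim _ hsub _ _)
  · -- everything is exact down to degree zero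
    have h00 : F.d 0 0 = 0 := F.shape 0 0 (by simp)
    have h1 := (isZero_homology_iff F 1 0 0 (by simp) (by simp)).1 (hall 0 (by omega) (by omega))
    rw [h00] at h1
    rcases Nat.eq_zero_or_pos k with rfl | hk0
    · rw [hdk 0] at h1
      have h2 : (⊥ : Submodule A (F.X 0)) = ⊤ := by simpa using h1
      exact bot_ne_top h2
    · have h1' : (⊤ : Submodule A (F.X 0)) ≤ maximalIdeal A • ⊤ := by
        refine le_trans ?_ (hmin 1 0)
        rw [h1]; simp
      have hsub : (⊤ : Submodule A (F.X 0)) = ⊥ :=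
        Submodule.eq_bot_of_le_smul_of_le_jacobson_bot _ _ Module.Finite.fg_top h1'
          (IsLocalRing.jacobson_eq_maximalIdeal ⊥ bot_ne_top).ge
      obtain ⟨x, y, hxy⟩ := key (k - 1) (by omega) 0 (by omega)
      refine hxy ?_
      have hbot : Subsingleton (LinearMap.range (F.d 1 0).hom) :=
        ⟨fun a b => Subtype.ext ((Submodule.mem_bot A).1 (hsub ▸ trivial : (a : F.X 0) ∈ (⊥ : Submodule A (F.X 0))) |>.trans
          ((Submodule.mem_bot A).1 (hsub ▸ trivial : (b : F.X 0) ∈ (⊥ : Submodule A (F.X 0)))).symm)⟩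
      rw [← Ext.comp_mk₀_id x, ← Ext.comp_mk₀_id y, (ModuleCat.isZero_of_subsingleton _).eq_of_src (𝟙 _) 0,
        Ext.mk₀_zero, Ext.comp_zero, Ext.comp_zero]

end Groth.Agent.FreeCx
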