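import Groth.Agent.FreeCx.Depth
import Groth.Agent.FreeCx.Chain
import Mathlib.Algebra.Homology.Augment
import Mathlib.Algebra.Category.ModuleCat.Projective
import Mathlib.CategoryTheory.Abelian.Projective.Dimension
import Mathlib.RingTheory.LocalRing.Module
import Mathlib.LinearAlgebra.Pi

/-!
# Minimal covers, finite minimal free resolutions and the Auslander–Buchsbaum equality
-/

namespace Groth.Agent.FreeCx

open CategoryTheory CategoryTheory.Limits Abelian IsLocalRing

universe u

variable {A : Type u} [CommRing A] [IsLocalRing A]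

/-- A minimal free cover. -/
theorem exists_min_cover (M : Type u) [AddCommGroup M] [Module A M] [Module.Finite A M] :
    ∃ (m : ℕ) (f : (Fin m → A) →ₗ[A] M), Function.Surjective f ∧
      LinearMap.ker f ≤ maximalIdeal A • (⊤ : Submodule A (Fin m → A)) := by
  classical
  have h : ∃ m, ∃ f : (Fin m → A) →ₗ[A] M, Function.Surjective f := Module.Finite.exists_fin' A M
  obtain ⟨f, hf⟩ := Nat.find_spec h
  refine ⟨Nat.find h, f, hf, fun v hv => ?_⟩
  have hall : ∀ i, v i ∈ maximalIdeal A := by
    intro i
    by_contra hi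
    obtain ⟨m', hm'⟩ : ∃ m', Nat.find h = m' + 1 := ⟨Nat.find h - 1, by have := i.2; omega⟩
    obtain ⟨a, ha⟩ := IsLocalRing.notMem_maximalIdeal.1 hi
    let e : Fin m' ≃ {j // j ≠ i} := (finCongr (by omega)).trans (Fintype.equivFinOfCardEq
      (show Fintype.card {j // j ≠ i} = Nat.find h - 1 by simp [Fintype.card_subtype_compl])).symm
    let g := Fintype.linearCombination A fun k => f (Pi.single (e k).1 1)
    have hg : Function.Surjective g := by
      rw [← LinearMap.range_eq_top, Fintype.range_linearCombination, eq_top_iff]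
      have hmem : ∀ j, f (Pi.single j 1) ∈ Submodule.span A (Set.range fun k => f (Pi.single (e k).1 1)) := by
        intro j
        by_cases hj : j = i
        · subst hj
          have hsum : ∑ k, v k • f (Pi.single k 1) = 0 := by
            have h2 := LinearMap.mem_ker.1 hv
            rw [pi_eq_sum_univ' v, map_sum] at h2
            exact (Finset.sum_congr rfl fun k _ => (map_smul f _ _).symm).trans h2
          rw [← Finset.add_sum_erase _ _ (Finset.mem_univ j), add_eq_zero_iff_eq_neg, ← ha] at hsum
          have h2 := congrArg (fun x => (↑a⁻¹ : A) • x) hsum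
          rw [smul_smul, Units.inv_mul, one_smul] at h2
          rw [h2]
          refine Submodule.smul_mem _ _ (Submodule.neg_mem _ (Submodule.sum_mem _ fun k hk => Submodule.smul_mem _ _ ?_))
          exact Submodule.subset_span ⟨e.symm ⟨k, (Finset.mem_erase.1 hk).1⟩, by simp⟩
        · exact Submodule.subset_span ⟨e.symm ⟨j, hj⟩, by simp⟩
      intro y _
      obtain ⟨w, rfl⟩ := hf y
      rw [pi_eq_sum_univ' w, map_sum]
      exact Submodule.sum_mem _ fun k _ => by rw [map_smul]; exact Submodule.smul_mem _ _ (hmem k)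
    exact Nat.find_min h (show m' < Nat.find h by omega) ⟨g, hg⟩
  rw [pi_eq_sum_univ' v]
  exact Submodule.sum_mem _ fun k _ => Submodule.smul_mem_smul (hall k) Submodule.mem_top

theorem projective_zero_step {M : Type u} [AddCommGroup M] [Module A M] [Module.Finite A M]
    (h : HasProjectiveDimensionLT (ModuleCat.of A M) 1) : Module.Free A M := by
  haveI : Projective (ModuleCat.of A M) := projective_iff_hasProjectiveDimensionLT_one.2 h
  haveI : Module.Projective A M := (IsProjective.iff_projective _).2 inferInstance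
  exact Module.free_of_flat_of_isLocalRing

variable [IsNoetherianRing A]

theorem shortExact_cover {m : ℕ} {M : Type u} [AddCommGroup M] [Module A M] (f : (Fin m → A) →ₗ[A] M)
    (hf : Function.Surjective f) (n : ℕ) :
    HasProjectiveDimensionLT (ModuleCat.of A M) (n + 2) ↔
      HasProjectiveDimensionLT (ModuleCat.of A (LinearMap.ker f)) (n + 1) := by
  have hS := LinearMap.shortExact_shortComplexKer hf
  haveI : Projective f.shortComplexKer.X₂ :=
    (IsProjective.iff_projective (R := A) (Fin m → A)).1 (inferInstance : Module.Projective A (Fin m → A))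
  exact hS.hasProjectiveDimensionLT_X₃_iff n inferInstance

/-- A minimal free resolution of length `n`. -/
theorem exists_minimal_resolution : ∀ (n : ℕ) (M : ModuleCat.{u} A), Module.Finite A M →
    HasProjectiveDimensionLT M (n + 1) →
    ∃ (F : ChainComplex (ModuleCat.{u} A) ℕ) (π : F.X 0 ⟶ M),
      (∀ i, Module.Free A (F.X i) ∧ Module.Finite A (F.X i)) ∧ (∀ i, n < i → IsZero (F.X i)) ∧
      (∀ i j, LinearMap.range (F.d i j).hom ≤ maximalIdeal A • (⊤ : Submodule A (F.X j))) ∧
      (∀ i, IsZero (F.homology (i + 1))) ∧ Function.Surjective π.hom ∧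
      LinearMap.range (F.d 1 0).hom = LinearMap.ker π.hom ∧
      LinearMap.ker π.hom ≤ maximalIdeal A • (⊤ : Submodule A (F.X 0))
  | 0, M, hM, h => by
    have : Module.Free A M := projective_zero_step h
    let C : ChainComplex (ModuleCat.{u} A) ℕ := { X := fun _ => ModuleCat.of A PUnit, d := fun _ _ => 0 }
    have hC : ∀ i, IsZero (C.X i) := fun _ => ModuleCat.isZero_of_subsingleton (ModuleCat.of A PUnit)
    refine ⟨ChainComplex.augment C (0 : C.X 0 ⟶ M) (by simp), 𝟙 M, ?_, ?_, ?_, ?_, Function.surjective_id, ?_, ?_⟩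
    · rintro (_ | i)
      · exact ⟨inferInstanceAs (Module.Free A M), inferInstanceAs (Module.Finite A M)⟩
      · exact ⟨inferInstanceAs (Module.Free A PUnit), inferInstanceAs (Module.Finite A PUnit)⟩
    · rintro (_ | i) hi
      · omega
      · exact hC i
    · intro i j
      rcases i with _ | i
      · rw [(ChainComplex.augment C (0 : C.X 0 ⟶ M) (by simp)).shape 0 j (by simp)]
        exact LinearMap.range_zero.trans_le bot_le
      · rw [(hC i).eq_of_src ((ChainComplex.augment C (0 : C.X 0 ⟶ M) (by simp)).d (i + 1) j) 0]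
        exact LinearMap.range_zero.trans_le bot_le
    · intro i
      exact ShortComplex.exact_iff_isZero_homology _ |>.1 (ShortComplex.exact_of_isZero_X₂ _ (hC i))
    · exact LinearMap.range_zero.trans LinearMap.ker_id.symm
    · exact LinearMap.ker_id.trans_le bot_le
  | n + 1, M, hM, h => by
    obtain ⟨m, f, hf, hker⟩ := exists_min_cover (A := A) M
    obtain ⟨C, π, hfree, hbd, hmin, hex, hπ, hrange, hkerπ⟩ := exists_minimal_resolution n
      (ModuleCat.of A (LinearMap.ker f)) (inferInstanceAs (Module.Finite A (LinearMap.ker f)))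
      ((shortExact_cover f hf n).1 h)
    let g : C.X 0 ⟶ ModuleCat.of A (Fin m → A) := π ≫ ModuleCat.ofHom (LinearMap.ker f).subtype
    have hw : C.d 1 0 ≫ g = 0 := by
      refine ModuleCat.hom_ext (LinearMap.ext fun y => ?_)
      have h1 : π.hom ((C.d 1 0).hom y) = 0 := LinearMap.mem_ker.1 (hrange.le ⟨y, rfl⟩)
      change (LinearMap.ker f).subtype (π.hom ((C.d 1 0).hom y)) = 0
      rw [h1, map_zero]
    have hrg : LinearMap.range g.hom = LinearMap.ker f := by
      change LinearMap.range ((LinearMap.ker f).subtype ∘ₗ π.hom) = _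
      rw [LinearMap.range_comp, LinearMap.range_eq_top.2 hπ, Submodule.map_top, Submodule.range_subtype]
    have hkg : LinearMap.ker g.hom = LinearMap.ker π.hom := by
      change LinearMap.ker ((LinearMap.ker f).subtype ∘ₗ π.hom) = _
      rw [LinearMap.ker_comp, Submodule.ker_subtype]
      rfl
    refine ⟨ChainComplex.augment C g hw, ModuleCat.ofHom f, ?_, ?_, ?_, ?_, hf, ?_, hker⟩
    · rintro (_ | i)
      · exact ⟨inferInstanceAs (Module.Free A (Fin m → A)), inferInstanceAs (Module.Finite A (Fin m → A))⟩
      · exact hfree i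
    · rintro (_ | i) hi
      · omega
      · exact hbd i (by omega)
    · intro i j
      by_cases hij : j + 1 = i
      · subst hij
        rcases j with _ | j
        · exact hrg.le.trans hker
        · exact hmin (j + 1) j
      · rw [(ChainComplex.augment C g hw).shape i j hij]; simp
    · intro i
      rcases i with _ | i
      · rw [isZero_homology_iff (ChainComplex.augment C g hw) 2 1 0 (by simp) (by simp)]
        exact hrange.trans hkg.symm
      · rw [isZero_homology_iff (ChainComplex.augment C g hw) (i + 3) (i + 2) (i + 1) (by simp) (by simp)]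
        exact (isZero_homology_iff C (i + 2) (i + 1) i (by simp) (by simp)).1 (hex i)
    · exact hrg

local notation "𝕜" => ModuleCat.of A (A ⧸ IsLocalRing.maximalIdeal A)

theorem depth_eq_of_nontrivial_ext {M : Type u} [AddCommGroup M] [Module A M] [Module.Finite A M] {j : ℕ}
    (h : (j : ℕ∞) ≤ LocCoh.depth A M) (hne : Nontrivial (Ext.{u} 𝕜 (ModuleCat.of A M) j)) :
    LocCoh.depth A M = j := by
  refine le_antisymm ?_ h
  by_contra hlt
  have h1 : ((j + 1 : ℕ) : ℕ∞) ≤ LocCoh.depth A M := by
    push_cast
    exact ENat.add_one_le_iff (ENat.natCast_ne_top j) |>.2 (not_le.1 hlt)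
  exact not_subsingleton_iff_nontrivial.2 hne
    ((DepthLib.natCast_le_idealDepth_iff_ext (maximalIdeal A) M (j + 1)).1 h1 j (Nat.lt_succ_self j))

theorem nontrivial_ext_of_depth_eq {M : Type u} [AddCommGroup M] [Module A M] [Module.Finite A M] {j : ℕ}
    (h : LocCoh.depth A M = j) : Nontrivial (Ext.{u} 𝕜 (ModuleCat.of A M) j) := by
  by_contra hsub
  rw [not_nontrivial_iff_subsingleton] at hsub
  have h1 : ((j + 1 : ℕ) : ℕ∞) ≤ LocCoh.depth A M := by
    refine (DepthLib.natCast_le_idealDepth_iff_ext (maximalIdeal A) M (j + 1)).2 fun i hi => ?_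
    rcases Nat.lt_succ_iff_lt_or_eq.1 hi with h' | rfl
    · exact (DepthLib.natCast_le_idealDepth_iff_ext (maximalIdeal A) M j).1 h.ge i h'
    · exact hsub
  rw [h] at h1
  exact absurd (ENat.natCast_le_natCast.1 h1) (Nat.not_succ_le_self j)

/-- **Auslander–Buchsbaum**. -/
theorem exists_depth_add_eq {d : ℕ} (hd : LocCoh.depth A A = d) : ∀ (n : ℕ) (M : Type u) [AddCommGroup M] [Module A M]
    [Module.Finite A M] [Nontrivial M], HasProjectiveDimensionLT (ModuleCat.of A M) (n + 1) →
    ∃ e, e ≤ n ∧ e ≤ d ∧ LocCoh.depth A M = (d - e : ℕ) ∧ HasProjectiveDimensionLT (ModuleCat.of A M) (e + 1)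
  | 0, M, _, _, _, _, h => by
    have : Module.Free A M := projective_zero_step h
    exact ⟨0, le_rfl, Nat.zero_le d, depth_eq_of_nontrivial_ext (le_depth_free M hd.ge) (nontrivial_ext_free M hd), h⟩
  | n + 1, M, _, _, _, _, h => by
    obtain ⟨m, f, hf, hker⟩ := exists_min_cover (A := A) M
    have hm : Nontrivial (Fin m → A) := hf.nontrivial
    by_cases hK : Subsingleton (LinearMap.ker f)
    · have hinj : Function.Injective f :=
        LinearMap.ker_eq_bot.1 (Submodule.eq_bot_of_subsingleton (p := LinearMap.ker f))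
      let e := LinearEquiv.ofBijective f ⟨hinj, hf⟩
      have : Module.Free A M := Module.Free.of_equiv e
      refine ⟨0, Nat.zero_le _, Nat.zero_le d,
        depth_eq_of_nontrivial_ext (le_depth_free M hd.ge) (nontrivial_ext_free M hd), ?_⟩
      haveI : Projective (ModuleCat.of A M) :=
        (IsProjective.iff_projective (R := A) M).1 (inferInstance : Module.Projective A M)
      exact projective_iff_hasProjectiveDimensionLT_one.1 inferInstance
    rw [not_subsingleton_iff_nontrivial] at hK
    obtain ⟨e, hen, hed, hdep, hpd⟩ := exists_depth_add_eq hd n (LinearMap.ker f) ((shortExact_cover f hf n).1 h)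
    have hex : Function.Exact (LinearMap.ker f).subtype f := LinearMap.exact_subtype_ker_map f
    have hne := nontrivial_ext_of_depth_eq hdep
    have hzero : ∀ x : Ext.{u} 𝕜 (ModuleCat.of A (LinearMap.ker f)) (d - e),
        x.comp (Ext.mk₀ (ModuleCat.ofHom (LinearMap.ker f).subtype)) (add_zero _) = 0 := by
      intro x
      rcases Nat.eq_zero_or_pos e with rfl | he
      · have : Module.Free A (LinearMap.ker f) := projective_zero_step hpd
        exact comp_mk₀_eq_zero_of_range_le (LinearMap.ker f).subtype (by rw [Submodule.range_subtype]; exact hker) _ x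
      · exact @Subsingleton.elim _ ((DepthLib.natCast_le_idealDepth_iff_ext (maximalIdeal A) (Fin m → A) d).1
          (le_depth_free _ hd.ge) (d - e) (by omega)) _ _
    have hed' : e + 1 ≤ d := by
      by_contra hlt
      have h0 : d - e = 0 := by omega
      obtain ⟨x, y, hxy⟩ := hne
      refine hxy ?_
      have : Mono (ModuleCat.ofHom (LinearMap.ker f).subtype) :=
        (ModuleCat.mono_iff_injective _).2 (LinearMap.ker f).injective_subtype
      revert x y hzero
      rw [h0]
      intro hzero x y _
      obtain ⟨a, rfl⟩ := (Ext.mk₀_bijective _ _).2 x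
      obtain ⟨b, rfl⟩ := (Ext.mk₀_bijective _ _).2 y
      have ha := hzero (Ext.mk₀ a)
      have hb := hzero (Ext.mk₀ b)
      rw [Ext.mk₀_comp_mk₀, ← Ext.mk₀_zero] at ha hb
      rw [zero_of_comp_mono _ ((Ext.mk₀_bijective _ _).1 ha), zero_of_comp_mono _ ((Ext.mk₀_bijective _ _).1 hb)]
    obtain ⟨j, hj⟩ : ∃ j, d - e = j + 1 := ⟨d - e - 1, by omega⟩
    refine ⟨e + 1, by omega, hed', ?_, (shortExact_cover f hf e).2 hpd⟩
    rw [show d - (e + 1) = j by omega]
    refine depth_eq_of_nontrivial_ext ?_ ?_
    · exact DepthLib.natCast_le_idealDepth_right (f := (LinearMap.ker f).subtype) (g := f)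
        (LinearMap.ker f).injective_subtype hf hex (le_depth_free _ (le_trans (by exact_mod_cast (show j ≤ d by omega)) hd.ge))
        (hdep.ge.trans' (by exact_mod_cast hj.ge))
    · have hS := DepthLib.shortExact_of_exact (LinearMap.ker f).injective_subtype hf hex
      by_contra hsub
      rw [not_nontrivial_iff_subsingleton] at hsub
      rw [hj] at hne hzero
      obtain ⟨x, y, hxy⟩ := hne
      refine hxy (sub_eq_zero.1 ?_)
      obtain ⟨z, hz⟩ := Ext.covariant_sequence_exact₁ _ hS (x - y) (hzero (x - y)) rfl
      rw [← hz, @Subsingleton.elim _ hsub z 0, Ext.zero_comp]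

end Groth.Agent.FreeCx
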