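import Groth.Agent.DepthLib.Ext
import Mathlib.RingTheory.LocalRing.Module
import Mathlib.Algebra.Homology.DerivedCategory.Ext.ExactSequences
import Mathlib.RingTheory.FiniteLength

/-!
# Depth in complexes of free modules: the acyclicity lemma and the depth of images in minimal complexes
-/

namespace Groth.Agent.FreeCx

open CategoryTheory Abelian IsLocalRing

universe u

variable {A : Type u} [CommRing A] [IsLocalRing A] [IsNoetherianRing A]

local notation "𝕜" => ModuleCat.of A (A ⧸ IsLocalRing.maximalIdeal A)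

theorem le_depth_pi {n : ℕ} (hn : (n : ℕ∞) ≤ LocCoh.depth A A) : ∀ r : ℕ, (n : ℕ∞) ≤ LocCoh.depth A (Fin r → A) := by
  intro r
  induction r with
  | zero => rw [DepthLib.depth_eq_top_of_subsingleton]; exact le_top
  | succ r ih =>
    rw [DepthLib.depth_congr (Fin.consLinearEquiv A fun _ => A).symm]
    exact DepthLib.natCast_le_idealDepth_middle (f := LinearMap.inl A A (Fin r → A))
      (g := LinearMap.snd A A (Fin r → A)) LinearMap.inl_injective LinearMap.snd_surjective .inl_snd hn ih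

theorem le_depth_free (M : Type u) [AddCommGroup M] [Module A M] [Module.Free A M] [Module.Finite A M] {n : ℕ}
    (hn : (n : ℕ∞) ≤ LocCoh.depth A A) : (n : ℕ∞) ≤ LocCoh.depth A M := by
  obtain ⟨r, ⟨b⟩⟩ : ∃ r, Nonempty (M ≃ₗ[A] Fin r → A) := ⟨_, ⟨(Module.finBasis A M).equivFun⟩⟩
  rw [DepthLib.depth_congr b]
  exact le_depth_pi hn r

theorem one_le_depth_submodule {M : Type u} [AddCommGroup M] [Module A M] [Module.Finite A M]
    (h : 1 ≤ LocCoh.depth A M) (N : Submodule A M) : ((1 : ℕ) : ℕ∞) ≤ LocCoh.depth A N := by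
  have h0 : ((0 : ℕ) : ℕ∞) ≤ LocCoh.idealDepth (maximalIdeal A) (M ⧸ N) := by simp
  exact DepthLib.natCast_le_idealDepth_left (f := N.subtype) (g := N.mkQ) N.injective_subtype N.mkQ_surjective
    (LinearMap.exact_subtype_mkQ N) (n := 0) (show ((0 + 1 : ℕ) : ℕ∞) ≤ LocCoh.idealDepth (maximalIdeal A) M by exact_mod_cast h) h0

theorem subsingleton_of_isFiniteLength {M : Type u} [AddCommGroup M] [Module A M] [Module.Finite A M]
    (h : 1 ≤ LocCoh.depth A M) (hM : IsFiniteLength A M) : Subsingleton M := by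
  have hH : Subsingleton (Ext.{u} 𝕜 (ModuleCat.of A M) 0) :=
    (DepthLib.natCast_le_idealDepth_iff_ext (maximalIdeal A) M 1).1 (by exact_mod_cast h) 0 Nat.one_pos
  by_contra hne
  rw [not_subsingleton_iff_nontrivial] at hne
  obtain ⟨_, _⟩ := isFiniteLength_iff_isNoetherian_isArtinian.1 hM
  · obtain ⟨S, hS⟩ := IsAtomic.exists_atom (α := Submodule A M)
    have : IsSimpleModule A S := isSimpleModule_iff_isAtom.2 hS
    obtain ⟨m, hm, ⟨e⟩⟩ := isSimpleModule_iff_quot_maximal.1 this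
    obtain rfl := IsLocalRing.eq_maximalIdeal hm
    let φ : 𝕜 ⟶ ModuleCat.of A M := ModuleCat.ofHom (S.subtype ∘ₗ e.symm.toLinearMap)
    have h0 := (Ext.mk₀_bijective 𝕜 (ModuleCat.of A M)).1 (@Subsingleton.elim _ hH (Ext.mk₀ φ) (Ext.mk₀ 0))
    have h1 : (S.subtype (e.symm (Submodule.Quotient.mk 1)) : M) = 0 :=
      congrArg (fun ψ : 𝕜 ⟶ ModuleCat.of A M => ψ.hom (Submodule.Quotient.mk 1)) h0
    have h2 : (Submodule.Quotient.mk 1 : A ⧸ maximalIdeal A) = 0 :=
      e.symm.map_eq_zero_iff.1 (S.injective_subtype (h1.trans (map_zero _).symm))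
    exact hm.ne_top ((Ideal.eq_top_iff_one _).2 ((Submodule.Quotient.mk_eq_zero _).1 h2))

variable {X Y Z : Type u} [AddCommGroup X] [Module A X] [Module.Finite A X] [AddCommGroup Y] [Module A Y]
  [Module.Finite A Y] [AddCommGroup Z] [Module A Z] [Module.Finite A Z]

/-- One step of the acyclicity lemma. -/
theorem acyclic_step (a : X →ₗ[A] Y) (b : Y →ₗ[A] Z) (hab : b ∘ₗ a = 0) {n : ℕ}
    (hY : ((n + 1 : ℕ) : ℕ∞) ≤ LocCoh.depth A Y) (hB : ((n + 2 : ℕ) : ℕ∞) ≤ LocCoh.depth A (LinearMap.range a))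
    (hH : IsFiniteLength A (LinearMap.ker b ⧸ (LinearMap.range a).comap (LinearMap.ker b).subtype)) :
    LinearMap.range a = LinearMap.ker b ∧ ((n + 1 : ℕ) : ℕ∞) ≤ LocCoh.depth A (LinearMap.range b) := by
  have hle : LinearMap.range a ≤ LinearMap.ker b := by
    rintro _ ⟨x, rfl⟩
    exact LinearMap.congr_fun hab x
  let H := (LinearMap.ker b) ⧸ (LinearMap.range a).comap (LinearMap.ker b).subtype
  have hZ : ((1 : ℕ) : ℕ∞) ≤ LocCoh.depth A (LinearMap.ker b) :=
    one_le_depth_submodule (le_trans (by exact_mod_cast Nat.le_add_left 1 n) hY) _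
  have hH1 : ((1 : ℕ) : ℕ∞) ≤ LocCoh.depth A H :=
    DepthLib.natCast_le_idealDepth_right (f := Submodule.inclusion hle)
      (g := Submodule.mkQ _) (Submodule.inclusion_injective hle) (Submodule.mkQ_surjective _) (by
        intro x
        rw [Submodule.mkQ_apply, Submodule.Quotient.mk_eq_zero, Submodule.mem_comap]
        exact ⟨fun hx => ⟨⟨x.1, hx⟩, Subtype.ext rfl⟩, fun ⟨y, hy⟩ => hy ▸ y.2⟩) hZ
      (le_trans (by exact_mod_cast Nat.le_add_left 2 n) hB)
  have hsub : Subsingleton H := subsingleton_of_isFiniteLength (by exact_mod_cast hH1) hH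
  have heq : LinearMap.range a = LinearMap.ker b := by
    refine le_antisymm hle fun y hy => ?_
    have h1 : (⟨y, hy⟩ : LinearMap.ker b) ∈ (LinearMap.range a).comap (LinearMap.ker b).subtype :=
      (Submodule.Quotient.mk_eq_zero _).1 (@Subsingleton.elim H hsub _ _)
    exact h1
  refine ⟨heq, ?_⟩
  exact DepthLib.natCast_le_idealDepth_right (f := (LinearMap.range a).subtype) (g := b.rangeRestrict)
    (LinearMap.range a).injective_subtype b.surjective_rangeRestrict (by
      intro y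
      rw [heq]
      exact ⟨fun hy => ⟨⟨y, by simpa using congrArg Subtype.val hy⟩, rfl⟩,
        fun ⟨z, hz⟩ => Subtype.ext (hz ▸ z.2)⟩) hY hB

/-- A map with values in `m Y` out of a free module is zero on `Ext(k, ·)`. -/
theorem comp_mk₀_eq_zero_of_range_le [Module.Free A X] [Module.Free A Y] (φ : X →ₗ[A] Y)
    (hφ : LinearMap.range φ ≤ maximalIdeal A • (⊤ : Submodule A Y)) (i : ℕ)
    (x : Ext.{u} 𝕜 (ModuleCat.of A X) i) : x.comp (Ext.mk₀ (ModuleCat.ofHom φ)) (add_zero i) = 0 := by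
  classical
  let bX := Module.Free.chooseBasis A X
  let bY := Module.Free.chooseBasis A Y
  have hmem : ∀ a c, bY.repr (φ (bX a)) c ∈ maximalIdeal A := fun a c => by
    have h := hφ ⟨bX a, rfl⟩
    refine Submodule.smul_induction_on (p := fun y => bY.repr y c ∈ maximalIdeal A) h (fun r hr y _ => ?_)
      (fun y z hy hz => ?_)
    · rw [map_smul, Finsupp.smul_apply, smul_eq_mul]
      exact Ideal.mul_mem_right _ _ hr
    · rw [map_add, Finsupp.add_apply]
      exact add_mem hy hz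
  let ψ : _ → _ → (ModuleCat.of A X ⟶ ModuleCat.of A Y) :=
    fun a c => ModuleCat.ofHom ((bX.coord a).smulRight (bY c))
  have hdec : ModuleCat.ofHom φ = ∑ a, ∑ c, bY.repr (φ (bX a)) c • ψ a c := by
    refine ModuleCat.hom_ext (bX.ext fun a => ?_)
    simp only [ψ, ModuleCat.hom_sum, ModuleCat.hom_smul, ModuleCat.hom_ofHom, LinearMap.sum_apply,
      LinearMap.smul_apply, LinearMap.smulRight_apply, Module.Basis.coord_apply]
    rw [Finset.sum_eq_single a]
    · simp [bY.sum_repr]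
    · intro b _ hb; simp [Finsupp.single_eq_of_ne hb]
    · simp
  have hkill : ∀ r ∈ maximalIdeal A, ∀ y : Ext.{u} 𝕜 (ModuleCat.of A Y) i, r • y = 0 := by
    intro r hr y
    have hzero : r • 𝟙 (𝕜 : ModuleCat.{u} A) = 0 := by
      refine ModuleCat.hom_ext (LinearMap.ext fun v => ?_)
      obtain ⟨v, rfl⟩ := Submodule.mkQ_surjective _ v
      change r • Submodule.mkQ (maximalIdeal A) v = 0
      rw [← map_smul, Submodule.mkQ_apply, Submodule.Quotient.mk_eq_zero, smul_eq_mul]
      exact Ideal.mul_mem_right _ _ hr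
    rw [← Ext.mk₀_id_comp y, ← Ext.smul_comp, ← Ext.mk₀_smul, hzero, Ext.mk₀_zero, Ext.zero_comp]
  rw [hdec, Ext.mk₀_sum, Ext.comp_sum]
  refine Finset.sum_eq_zero fun a _ => ?_
  rw [Ext.mk₀_sum, Ext.comp_sum]
  refine Finset.sum_eq_zero fun c _ => ?_
  rw [Ext.mk₀_smul, Ext.comp_smul]
  exact hkill _ (hmem a c) _

theorem nontrivial_ext_free (M : Type u) [AddCommGroup M] [Module A M] [Module.Free A M] [Module.Finite A M]
    [Nontrivial M] {d : ℕ} (hd : LocCoh.depth A A = d) : Nontrivial (Ext.{u} 𝕜 (ModuleCat.of A M) d) := by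
  have hA : ¬ Subsingleton (Ext.{u} 𝕜 (ModuleCat.of A A) d) := by
    intro hsub
    have h : ((d + 1 : ℕ) : ℕ∞) ≤ LocCoh.depth A A := by
      refine (DepthLib.natCast_le_idealDepth_iff_ext (maximalIdeal A) A (d + 1)).2 fun i hi => ?_
      rcases Nat.lt_succ_iff_lt_or_eq.1 hi with h | rfl
      · exact (DepthLib.natCast_le_idealDepth_iff_ext (maximalIdeal A) A d).1 hd.ge i h
      · exact hsub
    rw [hd] at h
    exact absurd (ENat.natCast_le_natCast.1 h) (Nat.not_succ_le_self d)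
  let b := Module.Free.chooseBasis A M
  have : Nonempty (Module.Free.ChooseBasisIndex A M) := b.index_nonempty
  obtain ⟨a⟩ := this
  rw [not_subsingleton_iff_nontrivial] at hA
  refine (Function.Injective.nontrivial (f := fun x : Ext.{u} 𝕜 (ModuleCat.of A A) d =>
    x.comp (Ext.mk₀ (ModuleCat.ofHom (LinearMap.toSpanSingleton A M (b a)))) (add_zero d)) fun x y h => ?_)
  have h2 := congrArg (fun z : Ext.{u} 𝕜 (ModuleCat.of A M) d =>
    z.comp (Ext.mk₀ (ModuleCat.ofHom (b.coord a))) (add_zero d)) h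
  have hid : ModuleCat.ofHom (LinearMap.toSpanSingleton A M (b a)) ≫ ModuleCat.ofHom (b.coord a) =
      𝟙 (ModuleCat.of A A) := by
    refine ModuleCat.hom_ext (LinearMap.ext_ring ?_)
    simp
  simpa [Ext.comp_assoc_of_second_deg_zero, Ext.mk₀_comp_mk₀, hid, Ext.comp_mk₀_id] using h2

/-- One step down in a minimal exact complex. -/
theorem ext_range_step (a : X →ₗ[A] Y) (b : Y →ₗ[A] Z) (hex : LinearMap.range a = LinearMap.ker b) {j : ℕ}
    (hne : Nontrivial (Ext.{u} 𝕜 (ModuleCat.of A (LinearMap.range a)) (j + 1)))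
    (hzero : ∀ x : Ext.{u} 𝕜 (ModuleCat.of A (LinearMap.range a)) (j + 1),
      x.comp (Ext.mk₀ (ModuleCat.ofHom (LinearMap.range a).subtype)) (add_zero _) = 0) :
    Nontrivial (Ext.{u} 𝕜 (ModuleCat.of A (LinearMap.range b)) j) := by
  have hfg : Function.Exact (LinearMap.range a).subtype b.rangeRestrict := by
    intro y
    rw [hex]
    exact ⟨fun hy => ⟨⟨y, by simpa using congrArg Subtype.val hy⟩, rfl⟩, fun ⟨z, hz⟩ => Subtype.ext (hz ▸ z.2)⟩
  have hS := DepthLib.shortExact_of_exact (LinearMap.range a).injective_subtype b.surjective_rangeRestrict hfg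
  by_contra hsub
  rw [not_nontrivial_iff_subsingleton] at hsub
  obtain ⟨x, y, hxy⟩ := hne
  refine hxy (sub_eq_zero.1 ?_)
  obtain ⟨z, hz⟩ := Ext.covariant_sequence_exact₁ _ hS (x - y) (hzero (x - y)) rfl
  rw [← hz, @Subsingleton.elim _ hsub z 0, Ext.zero_comp]

end Groth.Agent.FreeCx
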