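import Groth.Agent.FreeCx.Kill
import Groth.Agent.FreeCx.Depth
import Groth.Agent.CohenStruct.Structure
import Groth.Agent.CohenStruct.N2
import Groth.Agent.DimTrdeg.Basic
import Groth.Agent.DepthLib.CohenMacaulay
import Groth.Agent.DepthLib.RegularLocal
import Groth.Agent.PP16Lib.CompletionEquiv
import Groth.Agent.S0547
import Groth.Agent.S12916
import Mathlib.RingTheory.AdicCompletion.LocalRing
import Mathlib.Algebra.Category.ModuleCat.ChangeOfRings

/-!
# A complete domain of full dimension with uniform annihilators (characteristic `p`)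
-/

namespace Groth.Agent.FreeCx

open CategoryTheory IsLocalRing

universe u

/-- A finite module killed by a power of the maximal ideal has finite length. -/
theorem isFiniteLength_of_pow_kills {S : Type u} [CommRing S] [IsNoetherianRing S] [IsLocalRing S]
    (M : Type u) [AddCommGroup M] [Module S M] [Module.Finite S M] (N : ℕ)
    (h : maximalIdeal S ^ N ≤ Module.annihilator S M) : IsFiniteLength S M := by
  refine S12916.isFiniteLength_of_support M fun q hq => ?_
  rw [Module.support_eq_zeroLocus, PrimeSpectrum.mem_zeroLocus] at hq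
  have h1 : maximalIdeal S ≤ q.asIdeal := fun r hr => q.2.mem_of_pow_mem N (hq (h (Ideal.pow_mem_pow hr N)))
  rw [← (maximalIdeal.isMaximal S).eq_of_le q.2.ne_top h1]
  exact maximalIdeal.isMaximal S

/-- A prime with quotient of full dimension. -/
theorem exists_prime_ringKrullDim_quotient (R : Type u) [CommRing R] [IsNoetherianRing R] [IsLocalRing R] :
    ∃ P : Ideal R, P.IsPrime ∧ ringKrullDim R ≤ ringKrullDim (R ⧸ P) := by
  let l := LTSeries.longestOf (PrimeSpectrum R)
  refine ⟨l.head.asIdeal, l.head.2, ?_⟩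
  rw [ringKrullDim_quotient, ringKrullDim, Order.krullDim_eq_length_of_finiteDimensionalOrder (α := PrimeSpectrum R)]
  let l' : LTSeries (PrimeSpectrum.zeroLocus (l.head.asIdeal : Set R)) :=
    ⟨l.length, fun i => ⟨l i, (PrimeSpectrum.mem_zeroLocus _ _).2 (l.head_le i)⟩, fun i => l.step i⟩
  exact Order.LTSeries.length_le_krullDim l'

variable {S B : Type u} [CommRing S] [IsNoetherianRing S] [IsLocalRing S] [CommRing B]

/-- Multiplication by some nonzero scalar factors through a free module. -/
theorem exists_factor_free [IsDomain S] (M : Type u) [AddCommGroup M] [Module S M] [Module.Finite S M] :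
    ∃ (n : ℕ) (c : S) (ψ : M →ₗ[S] Fin n → S) (φ : (Fin n → S) →ₗ[S] M), c ≠ 0 ∧ φ ∘ₗ ψ = c • LinearMap.id := by
  classical
  obtain ⟨m, g, hg⟩ := Module.Finite.exists_fin (R := S) (M := M)
  obtain ⟨T, hT, hmax⟩ := exists_maximal_linearIndepOn S g
  let n := T.toFinset.card
  let e : Fin n ≃ T := T.toFinset.equivFin.symm.trans (Equiv.subtypeEquivRight fun _ => Set.mem_toFinset)
  let b : Fin n → M := fun i => g (e i)
  have hb : LinearIndependent S b := hT.comp _ e.injective
  let φ := Fintype.linearCombination S b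
  have hφinj : Function.Injective φ := hb.fintypeLinearCombination_injective
  have hrange : Submodule.span S (g '' T) ≤ LinearMap.range φ := by
    rw [Fintype.range_linearCombination]
    refine Submodule.span_mono ?_
    rintro _ ⟨i, hi, rfl⟩
    exact ⟨e.symm ⟨i, hi⟩, by simp [b]⟩
  have hel : ∀ i, ∃ r : S, r ≠ 0 ∧ r • g i ∈ LinearMap.range φ := fun i => by
    by_cases hi : i ∈ T
    · exact ⟨1, one_ne_zero, by rw [one_smul]; exact hrange (Submodule.subset_span ⟨i, hi, rfl⟩)⟩
    · obtain ⟨a, ha, hmem⟩ := hmax i hi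
      exact ⟨a, ha, hrange hmem⟩
  choose r hr0 hr using hel
  let c := ∏ i, r i
  have hR : ∀ x, c • x ∈ LinearMap.range φ := by
    intro x
    have hx : x ∈ Submodule.span S (Set.range g) := hg ▸ trivial
    refine Submodule.span_le (p := (LinearMap.range φ).comap (LinearMap.lsmul S M c)) |>.2 ?_ hx
    rintro _ ⟨i, rfl⟩
    show c • g i ∈ LinearMap.range φ
    rw [show c = (∏ j ∈ Finset.univ.erase i, r j) * r i from
      (Finset.prod_erase_mul _ _ (Finset.mem_univ i)).symm, mul_smul]
    exact Submodule.smul_mem _ _ (hr i)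
  refine ⟨n, c, (LinearEquiv.ofInjective φ hφinj).symm.toLinearMap ∘ₗ
    (c • LinearMap.id : M →ₗ[S] M).codRestrict _ hR, φ, Finset.prod_ne_zero_iff.2 fun i _ => hr0 i, ?_⟩
  refine LinearMap.ext fun x => ?_
  exact congrArg Subtype.val ((LinearEquiv.ofInjective φ hφinj).apply_symm_apply _)

/-- The uniform annihilator for free modules over a finite extension domain. -/
theorem exists_extKill [Nontrivial B] [IsDomain S] {d : ℕ} (hdepth : (d : ℕ∞) ≤ LocCoh.depth S S) (ι : S →+* B) (hfin : ι.Finite) :
    ∃ c : S, c ≠ 0 ∧ ∀ Y : ModuleCat.{u} B, Module.Free B Y → Module.Finite B Y →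
      ExtKill c ((ModuleCat.restrictScalars ι).obj Y) d := by
  algebraize [ι]
  obtain ⟨n, c, ψ, φ, hc, h⟩ := exists_factor_free (S := S) B
  refine ⟨c, hc, fun Y hY hY' => ?_⟩
  obtain ⟨r, ⟨e⟩⟩ : ∃ r, Nonempty (Y ≃ₗ[B] Fin r → B) := ⟨_, ⟨(Module.finBasis B Y).equivFun⟩⟩
  let eS : (ModuleCat.restrictScalars ι).obj Y →ₗ[S] (Fin r → B) :=
    { toFun := fun y => e (show Y from y), map_add' := fun a b => e.map_add a b,
      map_smul' := fun s y => (e.map_smul (ι s) (show Y from y)).trans
        (funext fun i => (Algebra.smul_def s (e (show Y from y) i)).symm) }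
  let eS' : (Fin r → B) →ₗ[S] (ModuleCat.restrictScalars ι).obj Y :=
    { toFun := fun v => e.symm v, map_add' := fun a b => e.symm.map_add a b,
      map_smul' := fun s v => by
        refine (congrArg e.symm (funext fun i => Algebra.smul_def s (v i) : s • v = ι s • v)).trans ?_
        exact e.symm.map_smul (ι s) v }
  let a : (ModuleCat.restrictScalars ι).obj Y ⟶ ModuleCat.of S (Fin r → Fin n → S) :=
    ConcreteCategory.ofHom (C := ModuleCat.{u} S) (ψ.compLeft (Fin r) ∘ₗ eS)
  let b : ModuleCat.of S (Fin r → Fin n → S) ⟶ (ModuleCat.restrictScalars ι).obj Y :=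
    ConcreteCategory.ofHom (C := ModuleCat.{u} S) (eS' ∘ₗ φ.compLeft (Fin r))
  refine ExtKill.of_factor a b ?_
    (extKill_one_of_depth _ (le_depth_free _ hdepth))
  refine ModuleCat.hom_ext (LinearMap.ext fun y => ?_)
  change eS' (φ.compLeft (Fin r) (ψ.compLeft (Fin r) (eS y))) = c • y
  have h1 : φ.compLeft (Fin r) (ψ.compLeft (Fin r) (eS y)) = c • eS y :=
    funext fun i => LinearMap.congr_fun h (eS y i)
  rw [h1, map_smul]
  exact congrArg (c • ·) (e.symm_apply_apply _)

variable (A : Type u) [CommRing A] [IsNoetherianRing A] [IsLocalRing A] (p : ℕ) [Fact p.Prime] [CharP A p]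

/-- The complete domain. -/
theorem exists_completeDomain {d : ℕ} (hd : ringKrullDim A = d) :
    ∃ (B : Type u) (_ : CommRing B) (_ : IsDomain B) (_ : IsLocalRing B) (_ : IsNoetherianRing B) (_ : CharP B p)
      (ψ : A →+* B) (S : Type u) (_ : CommRing S) (_ : IsNoetherianRing S) (_ : IsLocalRing S) (ι : S →+* B) (c : S),
      (maximalIdeal A).map ψ = maximalIdeal B ∧ ι.Finite ∧ IsLocalHom ι ∧ ι c ≠ 0 ∧
      ∀ Y : ModuleCat.{u} B, Module.Free B Y → Module.Finite B Y →
        ExtKill c ((ModuleCat.restrictScalars ι).obj Y) d := by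
  let Ah := AdicCompletion (maximalIdeal A) A
  have : IsNoetherianRing Ah := CohenStruct.isNoetherianRing_completion A
  obtain ⟨P, hP, hPdim⟩ := exists_prime_ringKrullDim_quotient Ah
  let B := Ah ⧸ P
  have hlB : IsLocalRing B := .of_surjective' (Ideal.Quotient.mk P) Ideal.Quotient.mk_surjective
  have hmB : maximalIdeal B = (maximalIdeal Ah).map (Ideal.Quotient.mk P) :=
    (map_maximalIdeal_of_surjective _ Ideal.Quotient.mk_surjective).symm
  let ψ : A →+* B := (Ideal.Quotient.mk P).comp (algebraMap A Ah)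
  have hψ : (maximalIdeal A).map ψ = maximalIdeal B := by
    rw [hmB, AdicCompletion.maximalIdeal_eq_map, Ideal.map_map]
  have hcp : CharP B p := (CharP.charP_iff_prime_eq_zero Fact.out).2 (by rw [← map_natCast ψ, CharP.cast_eq_zero, map_zero])
  have hcomplete : IsAdicComplete (maximalIdeal B) B := by
    rw [hmB]
    exact AdicLim.isAdicComplete_quotient P
  obtain ⟨Λ, _, n, f, hΛ, hinj, hfin, -⟩ := CohenStruct.exists_finite_injective B
  have hΛfield : IsField Λ := by
    refine hΛ.resolve_right ?_
    rintro ⟨hdom, hdvr, -, q, hq, hmax⟩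
    have hp0 : (p : Λ) = 0 := by
      refine (MvPowerSeries.C_injective (σ := Fin n)) (hinj ?_)
      rw [map_natCast, map_natCast, CharP.cast_eq_zero, map_zero, map_zero]
    by_cases hqp : q = p
    · subst hqp
      rw [hp0, Ideal.span_singleton_zero] at hmax
      exact IsDiscreteValuationRing.not_a_field Λ hmax
    · obtain ⟨a, b, hab⟩ := (Int.isCoprime_iff_gcd_eq_one.2 (by exact_mod_cast (Nat.coprime_primes (Fact.out : p.Prime) hq).2 (Ne.symm hqp)) :
        IsCoprime (p : ℤ) (q : ℤ))
      have h1 := congrArg (fun z : ℤ => (z : Λ)) hab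
      push_cast at h1
      rw [hp0, mul_zero, zero_add] at h1
      have h2 : (q : Λ) ∈ maximalIdeal Λ := hmax ▸ Ideal.mem_span_singleton_self _
      exact h2 (IsUnit.of_mul_eq_one_right _ h1)
  let := hΛfield.toField
  let S := MvPowerSeries (Fin n) Λ
  have hreg : IsRegularLocalRing S := PP16Lib.isRegularLocalRing_mvPowerSeries n Λ
  have hcm : LocCoh.IsCohenMacaulayLocalRing S := DepthLib.isCohenMacaulayLocalRing_of_isRegularLocalRing S
  have hdomS : IsDomain S := NoZeroDivisors.to_isDomain _
  algebraize [f]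
  have : Module.Finite S B := hfin
  have hdimS : (d : WithBot ℕ∞) ≤ ringKrullDim S := by
    have h1 := DimTrdeg.ringKrullDim_eq_of_isIntegral S B hinj
    have h2 : ringKrullDim Ah = d := (S0547.result A).trans hd
    exact h2.symm.le.trans (hPdim.trans h1.le)
  have hdepth : (d : ℕ∞) ≤ LocCoh.depth S S := by
    rw [DepthLib.ringKrullDim_eq_depth (R := S)] at hdimS
    exact WithBot.coe_le_coe.1 hdimS
  obtain ⟨c, hc, hkill⟩ := exists_extKill hdepth f hfin
  exact ⟨B, inferInstance, inferInstance, hlB, inferInstance, hcp, ψ, S, inferInstance, inferInstance, inferInstance, f, c,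
    hψ, hfin, hfin.to_isIntegral.isLocalHom hinj, fun h => hc (hinj (h.trans (map_zero f).symm)), hkill⟩

end Groth.Agent.FreeCx
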