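import Groth.Agent.DepthLib.Ext
import Mathlib.Algebra.Homology.DerivedCategory.Ext.ExactSequences
import Mathlib.RingTheory.LocalRing.Module
import Mathlib.RingTheory.FiniteLength

/-!
# A uniform annihilator for finite length homology of complexes of almost free modules

If `c` kills `Ext^j(L, X n)` for all finite length `L`, all `j ≤ N` and all terms `X n` of a complex with
finite length homology, then a power of `c`, depending only on the position, kills the homology within `N`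
steps of the left end.
-/

namespace Groth.Agent.FreeCx

open CategoryTheory Abelian

universe u

variable {S : Type u} [CommRing S] [IsNoetherianRing S]

/-- `c` kills `Ext^j(L, Y)` for `j < n` and `L` of finite length. -/
def ExtKill (c : S) (Y : ModuleCat.{u} S) (n : ℕ) : Prop :=
  ∀ L : ModuleCat.{u} S, Module.Finite S L → IsFiniteLength S L → ∀ j, j < n → ∀ x : Ext.{u} L Y j, c • x = 0

variable {c : S} {Y : ModuleCat.{u} S} {n : ℕ}

omit [IsNoetherianRing S] in
theorem ExtKill.mono {m : ℕ} (h : ExtKill c Y n) (hm : m ≤ n) : ExtKill c Y m :=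
  fun L hL hL' j hj => h L hL hL' j (lt_of_lt_of_le hj hm)

omit [IsNoetherianRing S] in
theorem ExtKill.of_subsingleton [Subsingleton Y] : ExtKill c Y n := fun L _ _ j _ x => by
  rw [← Ext.comp_mk₀_id x, (ModuleCat.isZero_of_subsingleton Y).eq_of_src (𝟙 Y) 0, Ext.mk₀_zero, Ext.comp_zero,
    smul_zero]

omit [IsNoetherianRing S] in
/-- Multiplication by `c` factors through an object killed by `1`. -/
theorem ExtKill.of_factor {W : ModuleCat.{u} S} (ψ : Y ⟶ W) (φ : W ⟶ Y) (h : ψ ≫ φ = c • 𝟙 Y)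
    (hW : ExtKill (1 : S) W n) : ExtKill c Y n := fun L hL hL' j hj x => by
  have h1 : x.comp (Ext.mk₀ ψ) (add_zero j) = 0 := by simpa using hW L hL hL' j hj (x.comp (Ext.mk₀ ψ) (add_zero j))
  have h2 : x.comp (Ext.mk₀ (c • 𝟙 Y)) (add_zero j) = c • x := by
    rw [Ext.mk₀_smul, Ext.comp_smul, Ext.comp_mk₀_id]
  rw [← h2, ← h, ← Ext.mk₀_comp_mk₀, ← Ext.comp_assoc_of_second_deg_zero, h1, Ext.zero_comp]

/-- Free modules of depth `≥ n`. -/
theorem extKill_one_of_depth [IsLocalRing S] (M : Type u) [AddCommGroup M] [Module S M] [Module.Finite S M]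
    (hn : (n : ℕ∞) ≤ LocCoh.depth S M) : ExtKill (1 : S) (ModuleCat.of S M) n := fun L hL hL' j hj x => by
  rw [one_smul]
  have hsupp : Module.support S L ⊆ PrimeSpectrum.zeroLocus (IsLocalRing.maximalIdeal S : Set S) := by
    intro q hq
    rw [PrimeSpectrum.mem_zeroLocus]
    obtain ⟨_, hart⟩ := isFiniteLength_iff_isNoetherian_isArtinian.1 hL'
    rw [Module.support_eq_zeroLocus, PrimeSpectrum.mem_zeroLocus] at hq
    obtain ⟨t, ht⟩ := IsArtinian.monotone_stabilizes
      (⟨fun k => OrderDual.toDual ((IsLocalRing.maximalIdeal S) ^ k • (⊤ : Submodule S L)), fun a b hab =>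
        Submodule.smul_mono_left (Ideal.pow_le_pow_right hab)⟩ : ℕ →o (Submodule S L)ᵒᵈ)
    have h1 : (IsLocalRing.maximalIdeal S) ^ t • (⊤ : Submodule S L) = ⊥ := by
      refine Submodule.eq_bot_of_le_smul_of_le_jacobson_bot (IsLocalRing.maximalIdeal S) _ (IsNoetherian.noetherian _) ?_
        (IsLocalRing.jacobson_eq_maximalIdeal ⊥ bot_ne_top).ge
      have h2 : (IsLocalRing.maximalIdeal S) ^ t • (⊤ : Submodule S L) =
          (IsLocalRing.maximalIdeal S) ^ (t + 1) • (⊤ : Submodule S L) :=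
        congrArg OrderDual.ofDual (ht (t + 1) (Nat.le_succ t))
      conv_lhs => rw [h2, pow_succ', Submodule.mul_smul]
    intro r hr
    refine q.2.mem_of_pow_mem t (hq (Module.mem_annihilator.2 fun y => ?_))
    have := Submodule.smul_mem_smul (Ideal.pow_mem_pow hr t) (Submodule.mem_top (x := y) (R := S))
    rwa [h1, Submodule.mem_bot] at this
  exact @Subsingleton.elim _ (DepthLib.subsingleton_ext_of_lt_idealDepth (M := M) (N := L) hsupp
    (lt_of_lt_of_le (by exact_mod_cast hj) hn)) x 0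

omit [IsNoetherianRing S] in
theorem smul_id_comp {L : ModuleCat.{u} S} (r : S) {j : ℕ} (x : Ext.{u} L Y j) :
    r • x = x.comp (Ext.mk₀ (r • 𝟙 Y)) (add_zero j) := by
  rw [Ext.mk₀_smul, Ext.comp_smul, Ext.comp_mk₀_id]

/-- One step. -/
theorem kill_step {X Z : ModuleCat.{u} S} [Module.Finite S Y] [Module.Finite S Z] (a : X ⟶ Y) (b : Y ⟶ Z)
    (hab : a ≫ b = 0) {c₀ c₁ : S} {m : ℕ} (hY : ExtKill c₀ Y (m + 1))
    (hB : ExtKill c₁ (ModuleCat.of S (LinearMap.range a.hom)) (m + 2))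
    (hH : IsFiniteLength S (LinearMap.ker b.hom ⧸ (LinearMap.range a.hom).comap (LinearMap.ker b.hom).subtype)) :
    (∀ y, b.hom y = 0 → (c₀ * c₁) • y ∈ LinearMap.range a.hom) ∧
      ExtKill (c₀ * (c₁ * (c₀ * c₁))) (ModuleCat.of S (LinearMap.range b.hom)) (m + 1) := by
  let Bm := LinearMap.range a.hom
  let Zm := LinearMap.ker b.hom
  have hle : Bm ≤ Zm := by
    rintro _ ⟨x, rfl⟩
    exact congrArg (fun ψ => ψ.hom x) hab
  let H := Zm ⧸ Bm.comap Zm.subtype
  have hex1 : Function.Exact (Submodule.inclusion hle) (Bm.comap Zm.subtype).mkQ := fun x => by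
    rw [Submodule.mkQ_apply, Submodule.Quotient.mk_eq_zero, Submodule.mem_comap]
    exact ⟨fun hx => ⟨⟨x.1, hx⟩, Subtype.ext rfl⟩, fun ⟨y, hy⟩ => hy ▸ y.2⟩
  have hS1 := DepthLib.shortExact_of_exact (Submodule.inclusion_injective hle) (Submodule.mkQ_surjective _) hex1
  let idH : Ext.{u} (ModuleCat.of S H) (ModuleCat.of S H) 0 := Ext.mk₀ (𝟙 _)
  -- `c₀ c₁` kills `H`
  have hkey : ∀ y : Zm, (c₀ * c₁) • (Submodule.Quotient.mk y : H) = 0 := by
    have h1 : (c₁ • idH).comp hS1.extClass (zero_add 1) = 0 := by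
      rw [Ext.smul_comp]
      exact hB (ModuleCat.of S H) inferInstance hH 1 (by omega) _
    obtain ⟨h', hh'⟩ := Ext.covariant_sequence_exact₃ _ hS1 (c₁ • idH) (zero_add 1) h1
    obtain ⟨h', rfl⟩ := (Ext.mk₀_bijective _ _).2 h'
    let incl : ModuleCat.of S Zm ⟶ Y := ModuleCat.ofHom Zm.subtype
    let h : ModuleCat.of S H ⟶ ModuleCat.of S Zm := h'
    have h2 := hY (ModuleCat.of S H) inferInstance hH 0 (Nat.succ_pos m) (Ext.mk₀ (h ≫ incl))
    rw [← Ext.mk₀_smul, ← Ext.mk₀_zero] at h2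
    have h3 := (Ext.mk₀_bijective _ _).1 h2
    have h4 : c₀ • h = 0 := ModuleCat.hom_ext (LinearMap.ext fun v => Zm.injective_subtype
      (congrArg (fun ψ => ψ.hom v) h3))
    intro y
    have h5 : h ≫ ModuleCat.ofHom (Bm.comap Zm.subtype).mkQ = c₁ • 𝟙 (ModuleCat.of S H) :=
      (Ext.mk₀_bijective _ _).1 (by rw [← Ext.mk₀_comp_mk₀, Ext.mk₀_smul]; exact hh')
    have h6 := congrArg (fun ψ => ψ.hom (Submodule.Quotient.mk y)) h5
    have h7 := congrArg (fun ψ => ψ.hom (Submodule.Quotient.mk y)) h4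
    simp only [ModuleCat.hom_smul, ModuleCat.hom_id, LinearMap.smul_apply, LinearMap.id_apply,
      ModuleCat.hom_comp, LinearMap.comp_apply, ModuleCat.hom_ofHom, ModuleCat.hom_zero, LinearMap.zero_apply] at h6 h7
    rw [mul_smul, ← h6, ← map_smul, h7, map_zero]
  have hfac : ∀ y : Zm, (c₀ * c₁) • (y : Y) ∈ Bm := fun y => by
    have h := hkey y
    rw [← Submodule.Quotient.mk_smul, Submodule.Quotient.mk_eq_zero, Submodule.mem_comap] at h
    exact h
  refine ⟨fun y hy => hfac ⟨y, hy⟩, ?_⟩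
  have hZ : ExtKill (c₁ * (c₀ * c₁)) (ModuleCat.of S Zm) (m + 2) := fun L hL hL' j hj x => by
    let ψ : ModuleCat.of S Zm ⟶ ModuleCat.of S Bm :=
      ModuleCat.ofHom (((c₀ * c₁) • Zm.subtype).codRestrict Bm hfac)
    let ι : ModuleCat.of S Bm ⟶ ModuleCat.of S Zm := ModuleCat.ofHom (Submodule.inclusion hle)
    have hψ : ψ ≫ ι = (c₀ * c₁) • 𝟙 _ := ModuleCat.hom_ext (LinearMap.ext fun v => Subtype.ext rfl)
    rw [mul_smul, smul_id_comp (c₀ * c₁) x, ← hψ, ← Ext.mk₀_comp_mk₀, ← Ext.comp_assoc_of_second_deg_zero,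
      ← Ext.smul_comp, hB L hL hL' j hj, Ext.zero_comp]
  have hex2 : Function.Exact Zm.subtype b.hom.rangeRestrict := fun y => by
    exact ⟨fun hy => ⟨⟨y, congrArg Subtype.val hy⟩, rfl⟩, fun ⟨z, hz⟩ => Subtype.ext (hz ▸ z.2)⟩
  have hS2 := DepthLib.shortExact_of_exact Zm.injective_subtype b.hom.surjective_rangeRestrict hex2
  intro L hL hL' j hj x
  have h1 : ((c₁ * (c₀ * c₁)) • x).comp hS2.extClass rfl = 0 := by
    rw [Ext.smul_comp]
    exact hZ L hL hL' (j + 1) (by omega) _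
  obtain ⟨y, hy⟩ := Ext.covariant_sequence_exact₃ _ hS2 _ rfl h1
  rw [mul_smul, ← hy, ← Ext.smul_comp]
  have := hY L hL hL' j hj y
  rw [show c₀ • y = 0 from this, Ext.zero_comp]

/-- The exponents. -/
def killExp : ℕ → ℕ
  | 0 => 0
  | n + 1 => 2 * killExp n + 2

/-- A power of `c` kills the homology. -/
theorem pow_kills_homology (X : ℕ → ModuleCat.{u} S) [∀ n, Module.Finite S (X n)] [Subsingleton (X 0)]
    (f : ∀ n, X n ⟶ X (n + 1)) (hff : ∀ n, f n ≫ f (n + 1) = 0) {c : S} {N M : ℕ} (hMN : M ≤ N)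
    (hX : ∀ n, n < M → ExtKill c (X (n + 1)) N)
    (hfl : ∀ n, n < M → IsFiniteLength S
      (LinearMap.ker (f (n + 1)).hom ⧸ (LinearMap.range (f n).hom).comap (LinearMap.ker (f (n + 1)).hom).subtype))
    {n : ℕ} (hn : n < M) (y : X (n + 1)) (hy : (f (n + 1)).hom y = 0) :
    c ^ (killExp n + 1) • y ∈ LinearMap.range (f n).hom := by
  have key : ∀ n, n < M → ExtKill (c ^ killExp n) (ModuleCat.of S (LinearMap.range (f n).hom)) (N + 1 - n) := by
    intro n
    induction n with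
    | zero =>
      intro _
      have : Subsingleton (LinearMap.range (f 0).hom) := ⟨by
        rintro ⟨_, a, rfl⟩ ⟨_, b, rfl⟩
        exact Subtype.ext (by rw [Subsingleton.elim a b])⟩
      exact ExtKill.of_subsingleton
    | succ n ih =>
      intro hn
      obtain ⟨m, hm⟩ : ∃ m, N + 1 - n = m + 2 := ⟨N - n - 1, by omega⟩
      have h := (kill_step (f n) (f (n + 1)) (hff n) ((hX n (by omega)).mono (show m + 1 ≤ N by omega))
        (hm ▸ ih (by omega)) (hfl n (by omega))).2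
      rw [show N + 1 - (n + 1) = m + 1 by omega]
      convert h using 1
      rw [killExp]; ring
  obtain ⟨m, hm⟩ : ∃ m, N + 1 - n = m + 2 := ⟨N - n - 1, by omega⟩
  have h := (kill_step (f n) (f (n + 1)) (hff n) ((hX n hn).mono (show m + 1 ≤ N by omega))
    (hm ▸ key n hn) (hfl n hn)).1 y hy
  rwa [pow_succ']

end Groth.Agent.FreeCx
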